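import Groth.Agent.FibDimLib.Formula

/-!
# The variety of nilpotent matrices
-/

set_option autoImplicit false
set_option linter.style.haveILetI false

universe u

open MvPolynomial Matrix

namespace Groth.Agent.NilConeLib

variable (k : Type u) [Field k] (n : ℕ)

/-- The equations of the nilpotent cone. -/
noncomputable def eqn : Ideal (MvPolynomial (Fin n × Fin n) k) :=
  Ideal.span (Set.range (fun i : Fin n => (Matrix.charpoly (Matrix.mvPolynomialX (Fin n) (Fin n) k)).coeff (i : ℕ)))

variable {k n}

/-- Coefficients below the degree vanish exactly when the characteristic polynomial is a power of `X`. -/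
theorem map_eqn_eq_zero {S : Type*} [CommRing S] [Nontrivial S] (θ : MvPolynomial (Fin n × Fin n) k →+* S)
    (h : ∀ x ∈ eqn k n, θ x = 0) :
    ((Matrix.mvPolynomialX (Fin n) (Fin n) k).map θ).charpoly = Polynomial.X ^ n := by
  refine Polynomial.ext fun i => ?_
  rcases lt_trichotomy i n with hi | hi | hi
  · rw [Polynomial.coeff_X_pow, if_neg hi.ne, Matrix.charpoly_map, Polynomial.coeff_map]
    exact h _ (Ideal.subset_span ⟨⟨i, hi⟩, rfl⟩)
  · subst hi
    have h1 := Matrix.charpoly_monic ((Matrix.mvPolynomialX (Fin i) (Fin i) k).map θ)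
    rw [Polynomial.Monic, Polynomial.leadingCoeff, Matrix.charpoly_natDegree_eq_dim, Fintype.card_fin] at h1
    rw [Polynomial.coeff_X_pow, if_pos rfl, h1]
  · rw [Polynomial.coeff_X_pow, if_neg hi.ne', Polynomial.coeff_eq_zero_of_natDegree_lt]
    rwa [Matrix.charpoly_natDegree_eq_dim, Fintype.card_fin]

theorem eqn_le_ker {S : Type*} [CommRing S] (θ : MvPolynomial (Fin n × Fin n) k →+* S)
    (h : ((Matrix.mvPolynomialX (Fin n) (Fin n) k).map θ).charpoly = Polynomial.X ^ n) :
    ∀ x ∈ eqn k n, θ x = 0 := by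
  intro x hx
  refine (show eqn k n ≤ RingHom.ker θ from Ideal.span_le.2 ?_) hx
  rintro _ ⟨i, rfl⟩
  show θ _ = 0
  rw [← Polynomial.coeff_map, ← Matrix.charpoly_map, h, Polynomial.coeff_X_pow, if_neg i.2.ne]

/-- A nilpotent endomorphism is strictly triangular in some basis. -/
theorem exists_basis_strictLower {K : Type u} [Field K] : ∀ (d : ℕ) {V : Type u} [AddCommGroup V] [Module K V]
    [FiniteDimensional K V], Module.finrank K V = d → ∀ f : Module.End K V, IsNilpotent f →
    ∃ b : Module.Basis (Fin d) K V, ∀ i j, i ≤ j → b.repr (f (b j)) i = 0 := by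
  intro d
  induction d with
  | zero => intro V _ _ _ hd f _; exact ⟨Module.finBasisOfFinrankEq K V hd, fun i => i.elim0⟩
  | succ d ih =>
    intro V _ _ _ hd f hf
    have hne : LinearMap.range f ≠ ⊤ := by
      intro htop
      obtain ⟨e, he⟩ := hf
      have hs : Function.Surjective (f ^ e : Module.End K V) := by
        rw [Module.End.coe_pow]
        exact (LinearMap.range_eq_top.1 htop).iterate e
      haveI : Nontrivial V := Module.nontrivial_of_finrank_eq_succ hd
      obtain ⟨v, hv⟩ := exists_ne (0 : V)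
      obtain ⟨w, hw⟩ := hs v
      exact hv (by rw [← hw, he]; rfl)
    obtain ⟨φ, hφ, hφle⟩ := Submodule.exists_le_ker_of_lt_top (LinearMap.range f) (lt_top_iff_ne_top.2 hne)
    obtain ⟨v, hv⟩ : ∃ v, φ v ≠ 0 := by
      by_contra h
      push_neg at h
      exact hφ (LinearMap.ext h)
    set H := LinearMap.ker φ
    have hH : ∀ z : H, f z ∈ H := fun z => hφle ⟨_, rfl⟩
    have hdH : Module.finrank K H = d := by
      have h1 := φ.finrank_range_add_finrank_ker
      rw [hd, LinearMap.range_eq_top.2 (LinearMap.surjective hφ), finrank_top, Module.finrank_self] at h1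
      show Module.finrank K (LinearMap.ker φ) = d
      omega
    obtain ⟨bH, hbH⟩ := ih hdH (f.restrict (fun z hz => hH ⟨z, hz⟩)) (by
      obtain ⟨e, he⟩ := hf
      exact ⟨e, LinearMap.ext fun z => Subtype.ext (by
        rw [Module.End.pow_restrict e (fun z hz => hH ⟨z, hz⟩), LinearMap.restrict_coe_apply, he]; rfl)⟩)
    let b := Module.Basis.mkFinCons v bH (fun c x hx h => by
      have h' := congrArg φ h
      rw [map_add, map_smul, LinearMap.mem_ker.1 hx, add_zero, map_zero, smul_eq_mul] at h'
      exact (mul_eq_zero.1 h').resolve_right hv)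
      (fun z => ⟨-(φ z / φ v), by
        show z + (-(φ z / φ v)) • v ∈ H
        rw [LinearMap.mem_ker, map_add, map_smul, smul_eq_mul]
        field_simp
        ring⟩)
    have hb : ⇑b = Fin.cons v (Subtype.val ∘ bH) := Module.Basis.coe_mkFinCons _ _ _ _
    -- expansion of elements of the hyperplane
    have hexp : ∀ z : H, b.repr (z : V) 0 = 0 ∧ ∀ i : Fin d, b.repr (z : V) i.succ = bH.repr z i := by
      intro z
      have hz : (z : V) = ∑ i : Fin d, bH.repr z i • b i.succ := by
        have hzz := congrArg Subtype.val (bH.sum_repr z)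
        refine hzz.symm.trans ?_
        simp [hb, -Module.Basis.sum_repr]
      rw [hz]
      refine ⟨?_, fun i => ?_⟩
      · simp [map_sum, Finsupp.single_apply, (Fin.succ_ne_zero _)]
      · simp [map_sum, Finsupp.single_apply, (Fin.succ_injective _).eq_iff]
    refine ⟨b, fun i j hij => ?_⟩
    obtain ⟨h0, hs⟩ := hexp ⟨f (b j), hφle ⟨_, rfl⟩⟩
    rcases Fin.eq_zero_or_eq_succ i with rfl | ⟨i, rfl⟩
    · exact h0
    rcases Fin.eq_zero_or_eq_succ j with rfl | ⟨j, rfl⟩
    · exact absurd hij (by simp)
    rw [hs i]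
    have e : (⟨f (b j.succ), hφle ⟨_, rfl⟩⟩ : H) = f.restrict (fun z hz => hH ⟨z, hz⟩) (bH j) :=
      Subtype.ext (by simp [hb])
    rw [e]
    exact hbH i j (Fin.succ_le_succ_iff.1 hij)

/-- Strictly lower triangular matrices have characteristic polynomial `X ^ n`. -/
theorem charpoly_strictLower {S : Type*} [CommRing S] (T : Matrix (Fin n) (Fin n) S)
    (hT : ∀ i j, i ≤ j → T i j = 0) : T.charpoly = Polynomial.X ^ n := by
  rw [← Matrix.charpoly_transpose, Matrix.charpoly_of_isUpperTriangular T.transpose (fun i j hij => hT j i (le_of_lt hij))]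
  simp [hT _ _ le_rfl]

/-- Variables of the parametrisation. -/
abbrev Var (n : ℕ) : Type := (Fin n × Fin n) ⊕ {p : Fin n × Fin n // p.2 < p.1}

variable (k n) in
/-- The universal change of basis. -/
noncomputable def G : Matrix (Fin n) (Fin n) (MvPolynomial (Var n) k) := Matrix.of fun i j => X (.inl (i, j))

variable (k n) in
/-- The universal strictly triangular matrix. -/
noncomputable def T : Matrix (Fin n) (Fin n) (MvPolynomial (Var n) k) :=
  Matrix.of fun i j => if h : j < i then X (.inr ⟨(i, j), h⟩) else 0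

variable (k n) in
/-- The parameter ring. -/
abbrev Param : Type u := Localization.Away (G k n).det

variable (k n) in
/-- The parametrisation. -/
noncomputable def param : MvPolynomial (Fin n × Fin n) k →ₐ[k] Param k n :=
  aeval fun p => ((G k n).map (algebraMap _ (Param k n)) * (T k n).map (algebraMap _ (Param k n)) *
    ((G k n).map (algebraMap _ (Param k n)))⁻¹) p.1 p.2

theorem map_param :
    (Matrix.mvPolynomialX (Fin n) (Fin n) k).map (param k n) = (G k n).map (algebraMap _ (Param k n)) *
      (T k n).map (algebraMap _ (Param k n)) * ((G k n).map (algebraMap _ (Param k n)))⁻¹ := by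
  ext i j
  simp [param]

theorem isDomain_param : IsDomain (Param k n) := by
  refine IsLocalization.isDomain_localization (powers_le_nonZeroDivisors_of_noZeroDivisors fun h => ?_)
  have := congrArg (aeval (R := k) (Sum.elim (fun p : Fin n × Fin n => if p.1 = p.2 then (1 : k) else 0) 0)) h
  rw [map_zero, AlgHom.map_det] at this
  refine one_ne_zero (α := k) ?_
  rw [← Matrix.det_one (n := Fin n), ← this]
  congr 1
  ext i j
  simp [G, Matrix.one_apply]

theorem isUnit_det : IsUnit ((G k n).map (algebraMap _ (Param k n))).det := by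
  rw [← RingHom.mapMatrix_apply, ← RingHom.map_det]
  exact IsLocalization.Away.algebraMap_isUnit _

theorem eqn_le_param : eqn k n ≤ RingHom.ker (param k n) := by
  refine fun x hx => eqn_le_ker (param k n).toRingHom ?_ x hx
  show ((Matrix.mvPolynomialX (Fin n) (Fin n) k).map (param k n)).charpoly = _
  rw [map_param, Matrix.charpoly_mul_comm, ← Matrix.mul_assoc, Matrix.nonsing_inv_mul _ isUnit_det, Matrix.one_mul]
  refine charpoly_strictLower _ fun i j hij => ?_
  simp [T, not_lt.2 hij]

/-- Every nilpotent matrix comes from the parametrisation. -/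
theorem eval_eq_zero [IsAlgClosed k] {f : MvPolynomial (Fin n × Fin n) k} (hf : param k n f = 0)
    (y : Fin n × Fin n → k) (hy : ∀ x ∈ eqn k n, aeval y x = 0) : aeval y f = 0 := by
  classical
  let Y : Matrix (Fin n) (Fin n) k := Matrix.of fun i j => y (i, j)
  have hY : (Matrix.mvPolynomialX (Fin n) (Fin n) k).map (aeval y).toRingHom = Y := by ext i j; simp [Y]
  have hch := map_eqn_eq_zero (aeval y).toRingHom hy
  rw [hY] at hch
  have hnil : IsNilpotent (Matrix.toLin' Y) := ⟨n, by
    rw [← Matrix.toLin'_pow]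
    have h := Matrix.aeval_self_charpoly Y
    rw [hch, map_pow, Polynomial.aeval_X] at h
    rw [h, map_zero]⟩
  obtain ⟨b, hb⟩ := exists_basis_strictLower n (Module.finrank_fin_fun k) _ hnil
  let Q := (Pi.basisFun k (Fin n)).toMatrix b
  let T' := LinearMap.toMatrix b b (Matrix.toLin' Y)
  have hQ : IsUnit Q.det := by
    haveI : Invertible Q := (Pi.basisFun k (Fin n)).invertibleToMatrix b
    exact Matrix.isUnit_det_of_invertible Q
  have hYQ : Y = Q * T' * Q⁻¹ := by
    have h1 : Q * T' = Y * Q := by
      rw [show Q * T' = LinearMap.toMatrix b (Pi.basisFun k (Fin n)) (Matrix.toLin' Y) from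
        basis_toMatrix_mul_linearMap_toMatrix _ _ _ _,
        ← linearMap_toMatrix_mul_basis_toMatrix (b := b) (b' := Pi.basisFun k (Fin n)) (c' := Pi.basisFun k (Fin n)),
        LinearMap.toMatrix_eq_toMatrix', LinearMap.toMatrix'_toLin']
    rw [h1, Matrix.mul_assoc, Matrix.mul_nonsing_inv _ hQ, Matrix.mul_one]
  let v : Var n → k := Sum.elim (fun p => Q p.1 p.2) (fun p => T' p.1.1 p.1.2)
  have hG : (G k n).map (aeval v).toRingHom = Q := by ext i j; simp [G, v]
  have hT : (T k n).map (aeval v).toRingHom = T' := by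
    ext i j
    by_cases h : j < i
    · simp [T, h, v]
    · have hb' := hb i j (not_lt.1 h)
      rw [Matrix.toLin'_apply] at hb'
      simp [T, h, T', LinearMap.toMatrix_apply, hb']
  have hu : IsUnit ((aeval (R := k) v) (G k n).det) := by
    show IsUnit ((aeval v).toRingHom (G k n).det)
    rw [RingHom.map_det, RingHom.mapMatrix_apply, hG]; exact hQ
  let ev : Param k n →ₐ[k] k := IsLocalization.liftAlgHom (M := Submonoid.powers (G k n).det) (f := aeval v) (fun z => by
    obtain ⟨e, he⟩ := z.2
    rw [← he, map_pow]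
    exact hu.pow e)
  have hev : ev.toRingHom.comp (algebraMap _ (Param k n)) = (aeval v).toRingHom :=
    RingHom.ext fun z => IsLocalization.lift_eq _ z
  have hinv : ((G k n).map (algebraMap _ (Param k n)))⁻¹.map ev.toRingHom = Q⁻¹ := by
    refine (Matrix.inv_eq_right_inv ?_).symm
    rw [← hG, ← hev, RingHom.coe_comp, ← Matrix.map_map, ← Matrix.map_mul, Matrix.mul_nonsing_inv _ isUnit_det,
      Matrix.map_one _ (map_zero _) (map_one _)]
  have hcomp : ev.comp (param k n) = aeval y := by
    refine MvPolynomial.algHom_ext fun p => ?_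
    have := congrFun (congrFun (congrArg (fun M : Matrix (Fin n) (Fin n) (Param k n) => M.map ev.toRingHom) map_param) p.1) p.2
    simp only [Matrix.map_mul, hinv, Matrix.map_map] at this
    rw [show (⇑ev.toRingHom ∘ ⇑(algebraMap _ (Param k n))) = ⇑(aeval v).toRingHom from funext fun z => RingHom.congr_fun hev z,
      hG, hT, ← hYQ] at this
    simpa [Y] using this
  rw [← hcomp, AlgHom.comp_apply, hf, map_zero]

theorem radical_eqn [IsAlgClosed k] : (eqn k n).radical = RingHom.ker (param k n) := by
  haveI := isDomain_param (k := k) (n := n)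
  refine le_antisymm ((RingHom.ker_isPrime _).radical_le_iff.2 eqn_le_param) fun f hf => ?_
  rw [← MvPolynomial.vanishingIdeal_zeroLocus_eq_radical (k := k) (K := k)]
  exact fun y hy => eval_eq_zero hf y hy

theorem trdeg_residueField_le [IsAlgClosed k] (hn : 1 ≤ n) (p : Ideal (MvPolynomial (Fin n × Fin n) k)) [p.IsPrime]
    (hp : eqn k n ≤ p) (hrad : p = (eqn k n).radical) :
    Algebra.trdeg k p.ResidueField ≤ ((n * (n - 1) : ℕ) : Cardinal) := by
  classical
  set κ := p.ResidueField
  let θ : MvPolynomial (Fin n × Fin n) k →ₐ[k] κ := IsScalarTower.toAlgHom k _ κ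
  have hθ : ∀ x, θ x = 0 ↔ x ∈ p := fun x => Ideal.algebraMap_residueField_eq_zero
  let z0 : Fin n := ⟨0, hn⟩
  let Y := (Matrix.mvPolynomialX (Fin n) (Fin n) k).map θ
  let P : Matrix (Fin n) (Fin n) κ := Matrix.of fun i j => (Y ^ (j : ℕ)) i z0
  let s : Set κ := Set.range fun ij : Fin n × Fin (n - 1) => (Y ^ ((ij.2 : ℕ) + 1)) ij.1 z0
  have hYn : Y ^ n = 0 := by
    have h := Matrix.aeval_self_charpoly Y
    rwa [show Y.charpoly = Polynomial.X ^ n from map_eqn_eq_zero θ.toRingHom (fun x hx => (hθ x).2 (hp hx)),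
      map_pow, Polynomial.aeval_X] at h
  -- the column vectors span
  have hdet : P.det ≠ 0 := by
    let D : MvPolynomial (Fin n × Fin n) k :=
      (Matrix.of fun i j : Fin n => ((Matrix.mvPolynomialX (Fin n) (Fin n) k) ^ (j : ℕ)) i z0).det
    have hD : P.det = θ D := by
      rw [AlgHom.map_det]
      congr 1
      ext i j
      simp only [P, Y, AlgHom.mapMatrix_apply, Matrix.map_apply, Matrix.of_apply]
      rw [← AlgHom.mapMatrix_apply, ← map_pow]
      rfl
    rw [hD, Ne, hθ, hrad]
    intro hmem
    let S : Matrix (Fin n) (Fin n) k := Matrix.of fun i j => if (i : ℕ) = j + 1 then 1 else 0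
    let y : Fin n × Fin n → k := fun q => S q.1 q.2
    have hy : (Matrix.mvPolynomialX (Fin n) (Fin n) k).map (aeval y).toRingHom = S := by ext i j; simp [y]
    have hzero : ∀ x ∈ eqn k n, aeval y x = 0 := eqn_le_ker (aeval y).toRingHom (by
      rw [hy]; exact charpoly_strictLower S fun i j hij => by
        simp only [S, Matrix.of_apply, ite_eq_right_iff, one_ne_zero, imp_false]; omega)
    obtain ⟨e, he⟩ := hmem
    have h0 : (aeval y) D = 0 := by
      have := hzero _ he
      rw [map_pow] at this
      exact (pow_eq_zero_iff' .. |>.1 this).1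
    have hpow : ∀ (j : ℕ) (i : Fin n), (S ^ j) i z0 = if (i : ℕ) = j then 1 else 0 := by
      intro j
      induction j with
      | zero => intro i; simp [Matrix.one_apply, z0, Fin.ext_iff]
      | succ j ih =>
        intro i
        rw [pow_succ', Matrix.mul_apply]
        simp only [ih, S, Matrix.of_apply]
        by_cases hj : j < n
        · rw [Finset.sum_eq_single (⟨j, hj⟩ : Fin n) (fun b _ hb => by
            rw [if_neg (fun h : (b : ℕ) = j => hb (Fin.ext h)), mul_zero]) (by simp)]
          simp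
        · rw [Finset.sum_eq_zero (fun b _ => by rw [if_neg (show ¬(b : ℕ) = j by omega), mul_zero]),
            if_neg (by omega)]
    refine one_ne_zero (α := k) ?_
    rw [← h0, AlgHom.map_det, ← Matrix.det_one (n := Fin n)]
    congr 1
    ext i j
    simp only [AlgHom.mapMatrix_apply, Matrix.map_apply, Matrix.of_apply]
    rw [show (aeval y) ((Matrix.mvPolynomialX (Fin n) (Fin n) k ^ (j : ℕ)) i z0) =
      ((Matrix.mvPolynomialX (Fin n) (Fin n) k).map (aeval y).toRingHom ^ (j : ℕ)) i z0 from by
        rw [← RingHom.mapMatrix_apply, ← map_pow]; rfl, hy, hpow, Matrix.one_apply]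
    simp [Fin.ext_iff]
  -- everything is algebraic over `k[s]`
  let A := Algebra.adjoin k s
  let L := Subalgebra.algebraicClosure A κ
  have hsL : ∀ x ∈ s, x ∈ L := fun x hx => isAlgebraic_algebraMap (⟨x, Algebra.subset_adjoin hx⟩ : A)
  have hcol : ∀ (i : Fin n) (j : ℕ), (Y ^ j) i z0 ∈ L := by
    intro i j
    rcases Nat.eq_zero_or_pos j with rfl | hj
    · rw [pow_zero, Matrix.one_apply]
      split_ifs
      · exact one_mem L
      · exact zero_mem L
    · rcases lt_or_ge j n with hjn | hjn
      · exact hsL _ ⟨(i, ⟨j - 1, by omega⟩), by simp [Nat.sub_add_cancel hj]⟩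
      · rw [← Nat.sub_add_cancel hjn, pow_add, hYn, mul_zero]
        exact zero_mem L
  let P' : Matrix (Fin n) (Fin n) L := Matrix.of fun i j => ⟨(Y ^ (j : ℕ)) i z0, hcol i j⟩
  have hPP : P'.map L.val = P := rfl
  have hinv : ∀ i j, P⁻¹ i j ∈ L := by
    intro i j
    rw [Matrix.inv_def, Ring.inverse_eq_inv', Matrix.smul_apply, smul_eq_mul, ← hPP]
    refine L.mul_mem ?_ ?_
    · exact IsAlgebraic.inv (by rw [← AlgHom.mapMatrix_apply, ← AlgHom.map_det]; exact P'.det.2)
    · rw [← AlgHom.mapMatrix_apply, ← AlgHom.map_adjugate]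
      exact (P'.adjugate i j).2
  have hY : ∀ i j, Y i j ∈ L := by
    intro i j
    have hu : IsUnit P.det := isUnit_iff_ne_zero.2 hdet
    rw [show Y = Y * P * P⁻¹ by rw [Matrix.mul_assoc, Matrix.mul_nonsing_inv _ hu, Matrix.mul_one], Matrix.mul_apply]
    refine L.sum_mem fun l _ => L.mul_mem ?_ (hinv l j)
    rw [show (Y * P) i l = (Y ^ ((l : ℕ) + 1)) i z0 from by rw [pow_succ', Matrix.mul_apply, Matrix.mul_apply]; rfl]
    exact hcol i _
  have hall : ∀ f, θ f ∈ L := by
    intro f
    induction f using MvPolynomial.induction_on with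
    | C a =>
      rw [← MvPolynomial.algebraMap_eq, AlgHom.commutes, IsScalarTower.algebraMap_apply k A κ]
      exact isAlgebraic_algebraMap _
    | add f g hf hg => rw [map_add]; exact L.add_mem hf hg
    | mul_X f q hf => rw [map_mul]; exact L.mul_mem hf (hY q.1 q.2)
  haveI : Algebra.IsAlgebraic A κ := ⟨fun x => by
    obtain ⟨a, b, -, hab⟩ := IsFractionRing.div_surjective (A := MvPolynomial (Fin n × Fin n) k ⧸ p) x
    obtain ⟨a, rfl⟩ := Ideal.Quotient.mk_surjective a
    obtain ⟨b, rfl⟩ := Ideal.Quotient.mk_surjective b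
    have e : ∀ f, algebraMap (MvPolynomial (Fin n × Fin n) k ⧸ p) κ (Ideal.Quotient.mk p f) = θ f := fun f => rfl
    rw [← hab, e, e, div_eq_mul_inv]
    exact L.mul_mem (hall a) (IsAlgebraic.inv (hall b))⟩
  refine (Algebra.IsAlgebraic.trdeg_le_cardinalMk k s).trans ?_
  haveI : Finite s := (Set.finite_range _).to_subtype
  rw [← Nat.cast_card]
  exact_mod_cast (Finite.card_range_le _).trans (by simp)

theorem main [IsAlgClosed k] (hn : 1 ≤ n) :
    IrreducibleSpace (PrimeSpectrum (MvPolynomial (Fin n × Fin n) k ⧸ eqn k n)) ∧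
      ringKrullDim (MvPolynomial (Fin n × Fin n) k ⧸ eqn k n) = ((n ^ 2 - n : ℕ) : WithBot ℕ∞) := by
  haveI := isDomain_param (k := k) (n := n)
  set p := (eqn k n).radical with hp_def
  haveI hp : p.IsPrime := by rw [hp_def, radical_eqn]; exact RingHom.ker_isPrime _
  have hrange : Set.range (PrimeSpectrum.comap (Ideal.Quotient.mk (eqn k n))) =
      PrimeSpectrum.zeroLocus (p : Set (MvPolynomial (Fin n × Fin n) k)) := by
    rw [range_comap_of_surjective _ _ Ideal.Quotient.mk_surjective, Ideal.mk_ker, hp_def, PrimeSpectrum.zeroLocus_radical]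
  refine ⟨?_, ?_⟩
  · have h1 : IsIrreducible (PrimeSpectrum.zeroLocus ((eqn k n : Ideal _) : Set (MvPolynomial (Fin n × Fin n) k))) :=
      (PrimeSpectrum.isIrreducible_zeroLocus_iff _).2 hp
    have he := PrimeSpectrum.isClosedEmbedding_comap_of_surjective _ (Ideal.Quotient.mk (eqn k n)) Ideal.Quotient.mk_surjective
    rw [← PrimeSpectrum.zeroLocus_radical, ← hp_def, ← hrange] at h1
    refine @IrreducibleSpace.mk _ _ ?_ ?_
    · refine ⟨fun U V hU hV hUn hVn => ?_⟩
      obtain ⟨U', hU', rfl⟩ := he.isInducing.isOpen_iff.1 hU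
      obtain ⟨V', hV', rfl⟩ := he.isInducing.isOpen_iff.1 hV
      obtain ⟨a, -, ha⟩ := hUn
      obtain ⟨b, -, hb⟩ := hVn
      obtain ⟨_, ⟨c, rfl⟩, hcU, hcV⟩ := h1.2 U' V' hU' hV' ⟨_, ⟨a, rfl⟩, ha⟩ ⟨_, ⟨b, rfl⟩, hb⟩
      exact ⟨c, trivial, hcU, hcV⟩
    · obtain ⟨_, ⟨c, -⟩⟩ := h1.1
      exact ⟨c⟩
  · have hdim : ringKrullDim (MvPolynomial (Fin n × Fin n) k ⧸ eqn k n) =
        ringKrullDim (MvPolynomial (Fin n × Fin n) k ⧸ p) := by
      rw [ringKrullDim_quotient, ringKrullDim_quotient, hp_def, PrimeSpectrum.zeroLocus_radical]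
    obtain ⟨e, he, hte⟩ := FibDimLib.ringKrullDim_quotient_eq_trdeg k p
    have hle : e ≤ n * (n - 1) := by
      have := trdeg_residueField_le hn p Ideal.le_radical rfl
      rw [hte] at this
      exact_mod_cast this
    have hh : p.height ≤ (n : ℕ∞) := by
      have hmin : p ∈ (eqn k n).minimalPrimes := ⟨⟨hp, Ideal.le_radical⟩, fun q hq _ => hq.1.radical_le_iff.2 hq.2⟩
      refine (Ideal.height_le_card_of_mem_minimalPrimes_span (Set.finite_range _) hmin).trans ?_
      norm_cast
      refine (Nat.card_coe_set_eq _).symm.le.trans ?_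
      exact (Finite.card_range_le _).trans (by simp)
    have hsum := FibDimLib.ringKrullDim_quotient_add_height_affine k (MvPolynomial (Fin n × Fin n) k) p
    rw [MvPolynomial.ringKrullDim_of_isNoetherianRing, ringKrullDim_eq_zero_of_field, zero_add, he] at hsum
    obtain ⟨h, hh'⟩ := ENat.ne_top_iff_exists.1 (ne_top_of_le_ne_top (ENat.natCast_ne_top n) hh)
    rw [← hh'] at hsum hh
    have hsum' : e + h = n * n := by
      simp only [Nat.card_eq_fintype_card, Fintype.card_prod, Fintype.card_fin] at hsum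
      exact_mod_cast hsum
    have hh2 : h ≤ n := by exact_mod_cast hh
    rw [hdim, he]
    have e1 : n * (n - 1) = n * n - n := by rw [Nat.mul_sub, mul_one]
    rw [show n ^ 2 - n = e by rw [pow_two]; omega]

end Groth.Agent.NilConeLib
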